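import Mathlib
import Cfsg.Agent.Lib.PGroups.Basic
import Cfsg.Agent.Lib.Transfer.CoprimeAut

/-!
# `p`-groups with an automorphism of order `p` with few fixed points

* `Bd p n α`: `α ^ p = 1` and `α` fixes at most `p ^ n` elements; inherited by invariant
  subgroups and quotients
* `card_le_of_exponent`: a `p`-group with such an automorphism and bounded exponent has bounded order
* `exists_generators`: it is generated by boundedly many elements
-/

set_option autoImplicit false
set_option linter.all false

namespace CfsgLib.PGroups.Alperin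

open scoped commutatorElement

/-- An automorphism of order dividing `p` with at most `p ^ n` fixed points. -/
def Bd {G : Type*} [Group G] (p n : ℕ) (α : MulAut G) : Prop :=
  α ^ p = 1 ∧ Nat.card {g : G // α g = g} ≤ p ^ n

variable {G : Type*} [Group G] {p n : ℕ} {α : MulAut G}

/-- The restriction to an invariant subgroup. -/
def restrict (α : MulAut G) (H : Subgroup G) (hH : ∀ x, x ∈ H ↔ α x ∈ H) : MulAut H where
  toFun x := ⟨α x, (hH x).mp x.2⟩
  invFun x := ⟨α.symm x, (hH (α.symm x)).mpr (by rw [MulEquiv.apply_symm_apply]; exact x.2)⟩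
  left_inv x := Subtype.ext (α.symm_apply_apply x)
  right_inv x := Subtype.ext (α.apply_symm_apply x)
  map_mul' x y := Subtype.ext (map_mul α (x : G) y)

theorem restrict_apply (α : MulAut G) (H : Subgroup G) (hH) (x : H) :
    ((restrict α H hH x : H) : G) = α x := rfl

theorem restrict_pow (α : MulAut G) (H : Subgroup G) (hH) (k : ℕ) (x : H) :
    (((restrict α H hH ^ k) x : H) : G) = (α ^ k) x := by
  induction k with
  | zero => rfl
  | succ k ih => rw [pow_succ', pow_succ', MulAut.mul_apply, MulAut.mul_apply, restrict_apply, ih]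

theorem Bd.restrict [Finite G] (h : Bd p n α) (H : Subgroup G) (hH : ∀ x, x ∈ H ↔ α x ∈ H) :
    Bd p n (Alperin.restrict α H hH) := by
  refine ⟨MulEquiv.ext fun x => Subtype.ext ?_, le_trans ?_ h.2⟩
  · rw [restrict_pow, h.1]; rfl
  · refine Nat.card_le_card_of_injective (fun x => ⟨x.1.1, congrArg Subtype.val x.2⟩) ?_
    intro x y hxy
    exact Subtype.ext (Subtype.ext (congrArg (fun z : {g : G // α g = g} => (z : G)) hxy))

/-- A characteristic subgroup is invariant. -/
theorem mem_iff_of_char (α : MulAut G) (H : Subgroup G) [hc : H.Characteristic] (x : G) :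
    x ∈ H ↔ α x ∈ H := by
  conv_lhs => rw [← hc.fixed α]
  exact Subgroup.mem_comap

theorem map_of_iff (α : MulAut G) (N : Subgroup G) (hN : ∀ x, x ∈ N ↔ α x ∈ N) :
    N.map α.toMonoidHom = N := by
  ext x
  rw [Subgroup.mem_map]
  constructor
  · rintro ⟨y, hy, rfl⟩; exact (hN y).mp hy
  · exact fun hx => ⟨α.symm x, (hN _).mpr (by rwa [MulEquiv.apply_symm_apply]), α.apply_symm_apply x⟩

/-- The automorphism induced on the quotient by an invariant subgroup. -/
def onQuot (α : MulAut G) (N : Subgroup G) [N.Normal] (hN : ∀ x, x ∈ N ↔ α x ∈ N) :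
    MulAut (G ⧸ N) :=
  QuotientGroup.congr N N α (map_of_iff α N hN)

theorem onQuot_mk (α : MulAut G) (N : Subgroup G) [N.Normal] (hN) (x : G) :
    onQuot α N hN (x : G ⧸ N) = ((α x : G) : G ⧸ N) := rfl

theorem onQuot_pow (α : MulAut G) (N : Subgroup G) [N.Normal] (hN) (k : ℕ) (x : G) :
    (onQuot α N hN ^ k) (x : G ⧸ N) = (((α ^ k) x : G) : G ⧸ N) := by
  induction k with
  | zero => rfl
  | succ k ih => rw [pow_succ', pow_succ', MulAut.mul_apply, MulAut.mul_apply, ih, onQuot_mk]

theorem Bd.quot [Finite G] (h : Bd p n α) (N : Subgroup G) [N.Normal]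
    (hN : ∀ x, x ∈ N ↔ α x ∈ N) : Bd p n (Alperin.onQuot α N hN) := by
  classical
  refine ⟨MulEquiv.ext fun x => ?_, ?_⟩
  · induction x using QuotientGroup.induction_on with
    | H x => rw [onQuot_pow, h.1]; rfl
  · haveI := Fintype.ofFinite G
    let S : Finset G := Finset.univ.filter fun g => g⁻¹ * α g ∈ N
    let T : Finset G := Finset.univ.filter fun g => g ∈ N
    have h1 : S.card ≤ p ^ n * T.card := by
      refine Finset.card_le_mul_card_image_of_maps_to (f := fun g => g⁻¹ * α g)
        (fun g hg => by simpa [T, S] using hg) _ fun b _ => ?_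
      rcases Finset.eq_empty_or_nonempty (S.filter fun g => g⁻¹ * α g = b) with he | ⟨g₀, hg₀⟩
      · rw [he]; simp
      refine le_trans ?_ (le_trans (le_of_eq (Nat.card_eq_fintype_card.symm)) h.2)
      rw [← Finset.card_univ]
      refine Finset.card_le_card_of_injOn (fun g => if hg : α (g * g₀⁻¹) = g * g₀⁻¹ then ⟨_, hg⟩
        else ⟨1, map_one α⟩) (fun _ _ => Finset.mem_univ _) ?_
      have hfix : ∀ g ∈ S.filter (fun g => g⁻¹ * α g = b), α (g * g₀⁻¹) = g * g₀⁻¹ := by
        intro g hg
        have e1 := (Finset.mem_filter.mp hg).2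
        have e0 := (Finset.mem_filter.mp hg₀).2
        have e2 : α g = g * b := by rw [← e1, mul_inv_cancel_left]
        have e3 : α g₀ = g₀ * b := by rw [← e0, mul_inv_cancel_left]
        rw [map_mul, map_inv, e2, e3]; group
      intro g hg g' hg' hgg
      simp only [dif_pos (hfix g (Finset.mem_coe.mp hg)), dif_pos (hfix g' (Finset.mem_coe.mp hg')),
        Subtype.mk.injEq, mul_left_inj] at hgg
      exact hgg
    have h2 : S.card = Nat.card {q : G ⧸ N // onQuot α N hN q = q} * T.card := by
      have e1 : T.card = Nat.card N := by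
        rw [Nat.card_eq_fintype_card, Fintype.card_subtype]
      have e2 : S.card = Nat.card (QuotientGroup.mk ⁻¹' {q : G ⧸ N | onQuot α N hN q = q} : Set G) := by
        rw [Nat.card_eq_fintype_card, Fintype.card_subtype]
        refine congrArg Finset.card (Finset.ext fun g => ?_)
        simp only [S, Finset.mem_filter, Finset.mem_univ, true_and, Set.mem_preimage,
          Set.mem_ofPred_eq, onQuot_mk, QuotientGroup.eq]
        rw [← inv_mem_iff, mul_inv_rev, inv_inv]
      rw [e2, Nat.card_congr (QuotientGroup.preimageMkEquivSubgroupProdSet N _), Nat.card_prod,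
        e1, mul_comm]
      rfl
    have hT : 0 < T.card := Finset.card_pos.mpr ⟨1, by simp [T]⟩
    exact Nat.le_of_mul_le_mul_right (h2 ▸ h1) hT

variable [hp : Fact p.Prime]

/-- An elementary abelian group with such an automorphism has order at most `p ^ (n * p)`. -/
theorem card_le_of_elementary {A : Type*} [CommGroup A] [Finite A] {α : MulAut A} (h : Bd p n α)
    (hA : ∀ x : A, x ^ p = 1) : Nat.card A ≤ p ^ (n * p) := by
  classical
  rcases subsingleton_or_nontrivial A with hs | hs
  · rw [Nat.card_of_subsingleton (1 : A)]; exact Nat.one_le_pow _ _ hp.out.pos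
  let a : Module.End ℤ (Additive A) := (MonoidHom.toAdditive α.toMonoidHom).toIntLinearMap
  have ha : ∀ x : A, a (Additive.ofMul x) = Additive.ofMul (α x) := fun x => rfl
  have hpw : ∀ (k : ℕ) (x : A), (a ^ k) (Additive.ofMul x) = Additive.ofMul ((α ^ k) x) := by
    intro k x
    induction k with
    | zero => rfl
    | succ k ih => rw [pow_succ', Module.End.mul_apply, ih, ha, pow_succ', MulAut.mul_apply]
  have hp0 : (p : Module.End ℤ (Additive A)) = 0 := by
    refine LinearMap.ext fun x => ?_
    rw [Module.End.natCast_apply]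
    exact congrArg Additive.ofMul (hA (Additive.toMul x))
  haveI : Nontrivial (Module.End ℤ (Additive A)) := ⟨⟨1, 0, fun e => by
    obtain ⟨x, hx⟩ := exists_ne (1 : A)
    exact hx (congrArg Additive.toMul (LinearMap.congr_fun e (Additive.ofMul x)))⟩⟩
  haveI : CharP (Module.End ℤ (Additive A)) p :=
    (CharP.charP_iff_prime_eq_zero hp.out).mpr hp0
  have hnil : (a - 1) ^ p = 0 := by
    rw [sub_pow_char_of_commute p (Commute.one_right a), one_pow, sub_eq_zero]
    refine LinearMap.ext fun x => ?_
    obtain ⟨x, rfl⟩ := Additive.ofMul.surjective x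
    rw [hpw, h.1]; rfl
  have hker : ∀ k, Nat.card (LinearMap.ker ((a - 1) ^ k)).toAddSubgroup ≤ p ^ (n * k) := by
    intro k
    induction k with
    | zero =>
      rw [pow_zero, Nat.mul_zero, pow_zero, Module.End.one_eq_id, LinearMap.ker_id,
        Submodule.bot_toAddSubgroup, AddSubgroup.card_bot]
    | succ k ih =>
      let δ : (LinearMap.ker ((a - 1) ^ (k + 1))).toAddSubgroup →+
          (LinearMap.ker ((a - 1) ^ k)).toAddSubgroup :=
        ((a - 1).toAddMonoidHom.comp (LinearMap.ker ((a - 1) ^ (k + 1))).toAddSubgroup.subtype).codRestrict _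
          fun x => by
            have hsplit : ∀ y : Additive A, ((a - 1) ^ (k + 1)) y = ((a - 1) ^ k) ((a - 1) y) :=
              fun y => by rw [pow_succ, Module.End.mul_apply]
            have := x.2
            rw [Submodule.mem_toAddSubgroup, LinearMap.mem_ker, hsplit] at this
            rw [Submodule.mem_toAddSubgroup, LinearMap.mem_ker]
            exact this
      have hexp : p ^ (n * (k + 1)) = p ^ (n * k) * p ^ n := by rw [← pow_add, Nat.mul_succ]
      rw [AddSubgroup.card_eq_card_quotient_mul_card_addSubgroup δ.ker,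
        Nat.card_congr (QuotientAddGroup.quotientKerEquivRange δ).toEquiv, hexp]
      refine Nat.mul_le_mul ((AddSubgroup.card_le_card_addGroup δ.range).trans ih) (le_trans ?_ h.2)
      refine Nat.card_le_card_of_injective
        (fun x => ⟨Additive.toMul (((x : δ.ker).1 : Additive A)), ?_⟩) ?_
      · have e : a ((x : δ.ker).1 : Additive A) - ((x : δ.ker).1 : Additive A) = 0 :=
          congrArg Subtype.val (AddMonoidHom.mem_ker.mp x.2)
        exact congrArg Additive.toMul (sub_eq_zero.mp e)
      · intro x y hxy
        exact Subtype.ext (Subtype.ext (congrArg (fun z : {g : A // α g = g} => Additive.ofMul (z : A)) hxy))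
  have := hker p
  rwa [hnil, LinearMap.ker_zero, Submodule.top_toAddSubgroup,
    AddSubgroup.card_top, Nat.card_congr Additive.toMul] at this

/-- An abelian group of exponent dividing `p ^ e` with such an automorphism. -/
theorem card_le_of_abelian : ∀ (e : ℕ) {A : Type*} [CommGroup A] [Finite A] {α : MulAut A},
    Bd p n α → (∀ x : A, x ^ p ^ e = 1) → Nat.card A ≤ p ^ (n * p * e) := by
  intro e
  induction e with
  | zero =>
    intro A _ _ α _ hA
    haveI : Subsingleton A := ⟨fun x y => by
      rw [← pow_one x, ← pow_one y, ← pow_zero p, hA, hA]⟩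
    rw [Nat.card_of_subsingleton (1 : A)]; simp
  | succ e ih =>
    intro A _ _ α h hA
    let f : A →* A := powMonoidHom p
    rw [Subgroup.card_eq_card_quotient_mul_card_subgroup f.ker,
      Nat.card_congr (QuotientGroup.quotientKerEquivRange f).toEquiv, Nat.mul_succ, pow_add]
    refine Nat.mul_le_mul ?_ ?_
    · have hi : ∀ x, x ∈ f.range ↔ α x ∈ f.range := fun x => by
        constructor
        · rintro ⟨y, rfl⟩; exact ⟨α y, (map_pow α y p).symm⟩
        · rintro ⟨y, hy⟩
          exact ⟨α.symm y, by
            show α.symm y ^ p = x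
            rw [← map_pow]; exact (MulEquiv.symm_apply_eq α).mpr hy⟩
      refine ih (h.restrict _ hi) ?_
      rintro ⟨_, y, rfl⟩
      refine Subtype.ext ?_
      show (y ^ p) ^ p ^ e = 1
      rw [← pow_mul, ← pow_succ', hA]
    · have hi : ∀ x, x ∈ f.ker ↔ α x ∈ f.ker := fun x => by
        show x ^ p = 1 ↔ α x ^ p = 1
        rw [← map_pow, map_eq_one_iff α α.injective]
      exact card_le_of_elementary (h.restrict _ hi) fun x => Subtype.ext x.2

/-- The bound for groups of exponent dividing `p ^ e`. -/
def orderBound (p n e : ℕ) : ℕ :=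
  p ^ (n * p * e) * p ^ (n * p * e) * (p ^ (n * p * e) * p ^ (n * p * e)).factorial

/-- A `p`-group of bounded exponent with such an automorphism has bounded order. -/
theorem card_le_of_exponent [Finite G] (hG : IsPGroup p G) (h : Bd p n α) (e : ℕ)
    (he : ∀ x : G, x ^ p ^ e = 1) : Nat.card G ≤ orderBound p n e := by
  obtain ⟨H, hHc, hfrat, -, hCH⟩ := CfsgLib.Transfer.exists_critical hG
  haveI := hHc
  set b := p ^ (n * p * e) with hb
  let Z : Subgroup H := (Subgroup.centralizer (H : Set G)).subgroupOf H
  have hH := h.restrict H (mem_iff_of_char α H)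
  haveI : Z.Normal := Subgroup.Normal.subgroupOf Subgroup.normal_centralizer H
  have hcinv : ∀ x, x ∈ Z ↔ Alperin.restrict α H (mem_iff_of_char α H) x ∈ Z := by
    intro x
    simp only [Z, Subgroup.mem_subgroupOf, restrict_apply, Subgroup.mem_centralizer_iff,
      SetLike.mem_coe]
    constructor
    · intro hx y hy
      have hy' : α.symm y ∈ H := (mem_iff_of_char α H _).mpr (by rwa [MulEquiv.apply_symm_apply])
      have := congrArg α (hx _ hy')
      rwa [map_mul, map_mul, MulEquiv.apply_symm_apply] at this
    · intro hx y hy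
      exact α.injective (by rw [map_mul, map_mul]; exact hx _ ((mem_iff_of_char α H y).mp hy))
  have hcardZ : Nat.card Z ≤ b := by
    letI : CommGroup Z :=
      { (inferInstance : Group Z) with
        mul_comm := fun x y => Subtype.ext (Subtype.ext
          (Subgroup.mem_centralizer_iff.mp y.2 _ x.1.2)) }
    exact card_le_of_abelian e (hH.restrict Z hcinv)
      fun x => Subtype.ext (Subtype.ext (he _))
  have hcardQ : Nat.card (H ⧸ Z) ≤ b := by
    letI : CommGroup (H ⧸ Z) :=
      { (inferInstance : Group (H ⧸ Z)) with
        mul_comm := fun x y => by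
          induction x using QuotientGroup.induction_on with
          | H x =>
          induction y using QuotientGroup.induction_on with
          | H y =>
          show ((x * y : H) : H ⧸ Z) = ((y * x : H) : H ⧸ Z)
          rw [QuotientGroup.eq]
          refine Subgroup.mem_subgroupOf.mpr (hfrat ?_)
          refine ⟨⁅y⁻¹, x⁻¹⁆, commutator_le_frattini' (hG.to_subgroup H)
            (Subgroup.commutator_mem_commutator (Subgroup.mem_top _) (Subgroup.mem_top _)), ?_⟩
          simp [commutatorElement_def, mul_assoc] }
    refine card_le_of_abelian e (hH.quot Z hcinv) fun x => ?_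
    induction x using QuotientGroup.induction_on with
    | H x =>
      rw [← QuotientGroup.mk_pow, show x ^ p ^ e = 1 from Subtype.ext (he _)]
      rfl
  have hcardH : Nat.card H ≤ b * b := by
    rw [Subgroup.card_eq_card_quotient_mul_card_subgroup Z]
    exact Nat.mul_le_mul hcardQ hcardZ
  haveI : H.Normal := inferInstance
  let ψ : G →* MulAut H := MulAut.conjNormal
  rw [Subgroup.card_eq_card_quotient_mul_card_subgroup ψ.ker,
    Nat.card_congr (QuotientGroup.quotientKerEquivRange ψ).toEquiv, orderBound, ← hb, mul_comm]
  refine Nat.mul_le_mul ?_ ?_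
  · refine le_trans (Subgroup.card_le_of_le ?_) hcardH
    intro g hg
    refine hCH (Subgroup.mem_centralizer_iff.mpr fun x hx => ?_)
    have h1 : ψ g ⟨x, hx⟩ = ⟨x, hx⟩ := by rw [MonoidHom.mem_ker.mp hg]; rfl
    have := congrArg Subtype.val h1
    simp only [ψ, MulAut.conjNormal_apply] at this
    exact (mul_inv_eq_iff_eq_mul.mp this).symm
  · refine (Subgroup.card_le_card_group ψ.range).trans ?_
    refine (Nat.card_le_card_of_injective (fun φ : MulAut H => φ.toEquiv) fun a b hab =>
      MulEquiv.ext fun x => Equiv.congr_fun hab x).trans ?_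
    rw [Nat.card_perm]
    exact Nat.factorial_le hcardH

/-- Boundedly many generators. -/
theorem exists_generators [Finite G] (hG : IsPGroup p G) (h : Bd p n α) :
    ∃ S : Finset G, S.card ≤ p ^ (n * p) ∧ Subgroup.closure (S : Set G) = ⊤ := by
  classical
  haveI := hG.isNilpotent
  haveI := Fintype.ofFinite (G ⧸ frattini G)
  refine ⟨Finset.univ.image fun q : G ⧸ frattini G => q.out, ?_, ?_⟩
  · refine Finset.card_image_le.trans ?_
    rw [Finset.card_univ, ← Nat.card_eq_fintype_card]
    letI : CommGroup (G ⧸ frattini G) :=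
      { (inferInstance : Group (G ⧸ frattini G)) with
        mul_comm := fun x y => by
          induction x using QuotientGroup.induction_on with
          | H x =>
          induction y using QuotientGroup.induction_on with
          | H y =>
          show ((x * y : G) : G ⧸ frattini G) = ((y * x : G) : G ⧸ frattini G)
          rw [QuotientGroup.eq]
          have := commutator_le_frattini' hG
            (Subgroup.commutator_mem_commutator (Subgroup.mem_top y⁻¹) (Subgroup.mem_top x⁻¹))
          simpa [commutatorElement_def, mul_assoc] using this }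
    refine card_le_of_elementary (h.quot _ (mem_iff_of_char α _)) fun x => ?_
    induction x using QuotientGroup.induction_on with
    | H x =>
      rw [← QuotientGroup.mk_pow]
      exact (QuotientGroup.eq_one_iff _).mpr (pow_mem_frattini hG x)
  · refine frattini_nongenerating (eq_top_iff.mpr fun x _ => ?_)
    have h1 : ((x : G ⧸ frattini G).out)⁻¹ * x ∈ frattini G :=
      QuotientGroup.eq.mp (QuotientGroup.out_eq' (x : G ⧸ frattini G))
    rw [← mul_inv_cancel_left ((x : G ⧸ frattini G).out) x]
    exact Subgroup.mul_mem_sup (Subgroup.subset_closure (by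
      simp only [Finset.coe_image, Finset.coe_univ, Set.image_univ]; exact ⟨_, rfl⟩)) h1

end CfsgLib.PGroups.Alperin
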