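import Mathlib
import Cfsg.Agent.Lib.Core.HKKBound

/-!
# The bound of Higman and Kreknin for Lie rings with torsion fixed points

`nsmul_C_eq_zero`: if an automorphism of prime order `p` of a Lie ring has norm map killed by `a`,
then every bound for graded rings with trivial zero component holds up to a multiple depending on
`a`, `p` and the bound only.
-/

set_option autoImplicit false
set_option linter.all false

namespace CfsgLib.PGroups.Alperin

open CfsgLib.Core.HKK
open scoped TensorProduct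

universe u

section cover

variable {p : ℕ} [NeZero p] {M : Type u} [LieRing M]

/-- The iterated brackets of the elements of a subgroup. -/
def iter (U : AddSubgroup M) : ℕ → AddSubgroup M
  | 0 => U
  | n + 1 => br (iter U n) U

/-- A coefficient of the group algebra of the cyclic group. -/
noncomputable def coeffHom (i : ZMod p) : AddMonoidAlgebra ℤ (ZMod p) →ₗ[ℤ] ℤ where
  toFun x := x.coeff i
  map_add' x y := by rw [AddMonoidAlgebra.coeff_add]; rfl
  map_smul' c x := by rw [AddMonoidAlgebra.coeff_smul]; rfl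

/-- A family of subgroups with `[N i, N j] ≤ N (i + j)` and `N 0 = ⊥` is covered by a graded ring
with trivial zero component. -/
theorem iter_iSup_eq_bot (N : ZMod p → AddSubgroup M) (hN0 : N 0 = ⊥)
    (hmul : ∀ {i j x y}, x ∈ N i → y ∈ N j → ⁅x, y⁆ ∈ N (i + j)) (m : ℕ)
    (hm : ∀ (L : Type u) [LieRing L], Grading p L → C m = (⊥ : AddSubgroup L)) :
    iter (⨆ i, N i) m = ⊥ := by
  classical
  let R := AddMonoidAlgebra ℤ (ZMod p)
  let sg : ZMod p → R := fun i => AddMonoidAlgebra.single i 1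
  let emb : ZMod p → M →+ R ⊗[ℤ] M := fun i => (TensorProduct.mk ℤ R M (sg i)).toAddMonoidHom
  have hembb : ∀ i j x y, ⁅emb i x, emb j y⁆ = emb (i + j) ⁅x, y⁆ := fun i j x y => by
    show ⁅sg i ⊗ₜ[ℤ] x, sg j ⊗ₜ[ℤ] y⁆ = sg (i + j) ⊗ₜ[ℤ] ⁅x, y⁆
    rw [LieAlgebra.ExtendScalars.bracket_tmul]
    congr 1
    show AddMonoidAlgebra.single i (1 : ℤ) * AddMonoidAlgebra.single j 1 = _
    rw [AddMonoidAlgebra.single_mul_single, mul_one]
  let T : AddSubgroup (R ⊗[ℤ] M) := ⨆ i, (N i).map (emb i)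
  have hgenT : T = AddSubgroup.closure (⋃ i, ((N i).map (emb i) : Set (R ⊗[ℤ] M))) := by
    show (⨆ i, (N i).map (emb i)) = _
    rw [AddSubgroup.iSup_eq_closure]
  have hT : ∀ {x y : R ⊗[ℤ] M}, x ∈ T → y ∈ T → ⁅x, y⁆ ∈ T := fun {x y} hx hy => by
    rw [hgenT] at hx hy
    refine closure_bracket ?_ hx hy
    intro s hs t ht
    simp only [Set.mem_iUnion, SetLike.mem_coe, AddSubgroup.mem_map] at hs ht
    obtain ⟨i, a, ha, rfl⟩ := hs
    obtain ⟨j, b, hb, rfl⟩ := ht
    rw [hembb]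
    exact AddSubgroup.mem_iSup_of_mem (i + j) (AddSubgroup.mem_map_of_mem _ (hmul ha hb))
  letI : LieRing T :=
    { (inferInstance : AddCommGroup T) with
      bracket := fun x y => ⟨⁅(x : R ⊗[ℤ] M), (y : R ⊗[ℤ] M)⁆, hT x.2 y.2⟩
      add_lie := fun x y z => Subtype.ext (add_lie (x : R ⊗[ℤ] M) (y : R ⊗[ℤ] M) (z : R ⊗[ℤ] M))
      lie_add := fun x y z => Subtype.ext (lie_add (x : R ⊗[ℤ] M) (y : R ⊗[ℤ] M) (z : R ⊗[ℤ] M))
      lie_self := fun x => Subtype.ext (lie_self (x : R ⊗[ℤ] M))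
      leibniz_lie := fun x y z => Subtype.ext (leibniz_lie (x : R ⊗[ℤ] M) (y : R ⊗[ℤ] M) (z : R ⊗[ℤ] M)) }
  let co : ZMod p → R ⊗[ℤ] M →+ M := fun i =>
    ((TensorProduct.lid ℤ M).toLinearMap ∘ₗ (coeffHom i).rTensor M).toAddMonoidHom
  have hco : ∀ i j x, co i (emb j x) = if j = i then x else 0 := fun i j x => by
    show (TensorProduct.lid ℤ M) ((coeffHom i).rTensor M (sg j ⊗ₜ[ℤ] x)) = _
    rw [LinearMap.rTensor_tmul, TensorProduct.lid_tmul]
    show ((sg j).coeff i : ℤ) • x = _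
    simp only [sg, AddMonoidAlgebra.coeff_single, Finsupp.single_apply]
    split_ifs <;> simp
  -- the coefficients lie in the given subgroups and determine the element
  have hcoN : ∀ i, ∀ z ∈ T, co i z ∈ N i ∧ z = ∑ j, emb j (co j z) := by
    intro i z hz
    induction hz using AddSubgroup.iSup_induction' with
    | hp j z hz =>
      obtain ⟨a, ha, rfl⟩ := hz
      constructor
      · rw [hco]; split_ifs with h
        · exact h ▸ ha
        · exact zero_mem _
      · simp only [hco]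
        rw [Finset.sum_eq_single j (fun k _ hk => by rw [if_neg (Ne.symm hk), map_zero])
          (fun h => absurd (Finset.mem_univ j) h), if_pos rfl]
    | h1 => simp
    | hadd x y _ _ hx hy =>
      refine ⟨by rw [map_add]; exact add_mem hx.1 hy.1, ?_⟩
      simp only [map_add, Finset.sum_add_distrib, ← hx.2, ← hy.2]
  let 𝒢 : Grading p T :=
    { part := fun i => ((N i).map (emb i)).addSubgroupOf T
      proj := fun i =>
        { toFun := fun z => ⟨emb i (co i z), AddSubgroup.mem_iSup_of_mem i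
            (AddSubgroup.mem_map_of_mem _ (hcoN i _ z.2).1)⟩
          map_zero' := Subtype.ext (by simp)
          map_add' := fun x y => Subtype.ext (by simp) }
      lie_mem := fun {i j x y} hx hy => by
        rw [AddSubgroup.mem_addSubgroupOf] at hx hy ⊢
        obtain ⟨a, ha, hax⟩ := hx
        obtain ⟨b, hb, hby⟩ := hy
        exact ⟨⁅a, b⁆, hmul ha hb, by
          show emb (i + j) ⁅a, b⁆ = ⁅(x : R ⊗[ℤ] M), (y : R ⊗[ℤ] M)⁆
          rw [← hembb, hax, hby]⟩
      part_zero := by simp [hN0]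
      proj_self := fun {i x} hx => by
        rw [AddSubgroup.mem_addSubgroupOf] at hx
        obtain ⟨a, ha, hax⟩ := hx
        refine Subtype.ext ?_
        show emb i (co i (x : R ⊗[ℤ] M)) = x
        rw [← hax, hco, if_pos rfl]
      proj_ne := fun {i j x} hne hx => by
        rw [AddSubgroup.mem_addSubgroupOf] at hx
        obtain ⟨a, ha, hax⟩ := hx
        refine Subtype.ext ?_
        show emb i (co i (x : R ⊗[ℤ] M)) = 0
        rw [← hax, hco, if_neg hne, map_zero]
      proj_mem := fun i x => by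
        rw [AddSubgroup.mem_addSubgroupOf]
        exact AddSubgroup.mem_map_of_mem _ (hcoN i _ x.2).1
      sum_proj := fun x => Subtype.ext (by
        rw [AddSubgroup.val_finsetSum]
        exact (hcoN 0 _ x.2).2.symm) }
  -- the augmentation
  let aug : R →ₐ[ℤ] ℤ := AddMonoidAlgebra.lift ℤ ℤ (ZMod p) 1
  let θ : R ⊗[ℤ] M →+ M :=
    ((TensorProduct.lid ℤ M).toLinearMap ∘ₗ aug.toLinearMap.rTensor M).toAddMonoidHom
  have hθemb : ∀ i x, θ (emb i x) = x := fun i x => by
    show (TensorProduct.lid ℤ M) (aug.toLinearMap.rTensor M (sg i ⊗ₜ[ℤ] x)) = x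
    rw [LinearMap.rTensor_tmul, TensorProduct.lid_tmul]
    show (AddMonoidAlgebra.lift ℤ ℤ (ZMod p) 1) (AddMonoidAlgebra.single i 1) • x = x
    rw [AddMonoidAlgebra.lift_single]
    simp
  have haddl : ∀ x y z : R ⊗[ℤ] M, ⁅x + y, z⁆ = ⁅x, z⁆ + ⁅y, z⁆ := fun x y z => add_lie x y z
  have haddr : ∀ x y z : R ⊗[ℤ] M, ⁅x, y + z⁆ = ⁅x, y⁆ + ⁅x, z⁆ := fun x y z => lie_add x y z
  have hzl : ∀ x : R ⊗[ℤ] M, ⁅(0 : R ⊗[ℤ] M), x⁆ = 0 := fun x => zero_lie x
  have hzr : ∀ x : R ⊗[ℤ] M, ⁅x, (0 : R ⊗[ℤ] M)⁆ = 0 := fun x => lie_zero x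
  have hθlie : ∀ x ∈ T, ∀ y ∈ T, θ ⁅x, y⁆ = ⁅θ x, θ y⁆ := by
    intro x hx y hy
    induction hx using AddSubgroup.iSup_induction' with
    | hp i x hx =>
      obtain ⟨a, ha, rfl⟩ := hx
      induction hy using AddSubgroup.iSup_induction' with
      | hp j y hy =>
        obtain ⟨b, hb, rfl⟩ := hy
        rw [hembb, hθemb, hθemb, hθemb]
      | h1 => simp only [hzr, map_zero, lie_zero]
      | hadd y y' _ _ h h' => simp only [haddr, lie_add, map_add, h, h']
    | h1 => simp only [hzl, map_zero, zero_lie]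
    | hadd x x' _ _ h h' => simp only [haddl, add_lie, map_add, h, h']
  have hlift : ∀ k, iter (⨆ i, N i) k ≤
      (C k : AddSubgroup T).map (θ.comp T.subtype) := by
    intro k
    induction k with
    | zero =>
      refine iSup_le fun i x hx => ?_
      exact ⟨⟨emb i x, AddSubgroup.mem_iSup_of_mem i (AddSubgroup.mem_map_of_mem _ hx)⟩,
        AddSubgroup.mem_top _, hθemb i x⟩
    | succ k ih =>
      refine br_le fun a ha b hb => ?_
      obtain ⟨a', ha', rfl⟩ := ih ha
      have hb' : b ∈ (⊤ : AddSubgroup T).map (θ.comp T.subtype) := by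
        refine (iSup_le fun i x hx => ?_ : (⨆ i, N i) ≤ _) hb
        exact ⟨⟨emb i x, AddSubgroup.mem_iSup_of_mem i (AddSubgroup.mem_map_of_mem _ hx)⟩,
          AddSubgroup.mem_top _, hθemb i x⟩
      obtain ⟨b', -, rfl⟩ := hb'
      exact ⟨⁅a', b'⁆, mem_br ha' (AddSubgroup.mem_top b'), hθlie _ a'.2 _ b'.2⟩
  refine le_bot_iff.mp ((hlift m).trans ?_)
  rw [hm T 𝒢, AddSubgroup.map_bot]

end cover

/-- A multiple of every element in `iter` of the whole ring. -/
theorem nsmul_C_mem_iter {L : Type u} [LieRing L] (U : AddSubgroup L) (c : ℕ)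
    (h : ∀ x : L, c • x ∈ U) : ∀ (k : ℕ), ∀ x ∈ (C k : AddSubgroup L), c ^ (k + 1) • x ∈ iter U k := by
  intro k
  induction k with
  | zero => intro x _; rw [Nat.zero_add, pow_one]; exact h x
  | succ k ih =>
    intro x hx
    induction hx using AddSubgroup.closure_induction with
    | mem x hx =>
      obtain ⟨a, ha, b, -, rfl⟩ := hx
      rw [pow_succ, mul_smul, ← lie_nsmul, ← nsmul_lie]
      exact mem_br (ih a ha) (h b)
    | zero => rw [smul_zero]; exact zero_mem _
    | add a b _ _ ha hb => rw [smul_add]; exact add_mem ha hb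
    | neg a _ ha => rw [smul_neg]; exact neg_mem ha

set_option backward.isDefEq.respectTransparency false in
/-- Bounds for graded rings hold up to torsion if the norm map is killed by `a`. -/
theorem nsmul_C_eq_zero {p : ℕ} [hp : Fact p.Prime] {L : Type u} [LieRing L] (Φ : L →+ L)
    (hlie : ∀ x y, Φ ⁅x, y⁆ = ⁅Φ x, Φ y⁆) (hper : ∀ x, (⇑Φ)^[p] x = x) (a : ℕ)
    (hnorm : ∀ x, a • ∑ k ∈ Finset.range p, (⇑Φ)^[k] x = 0) (m : ℕ)
    (hm : ∀ (M : Type u) [LieRing M], Grading p M → C m = (⊥ : AddSubgroup M)) :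
    ∀ x ∈ (C m : AddSubgroup L), (a * p * p) ^ (m + 1) • x = 0 := by
  let F : Module.End (Cyc p) (Cyc p ⊗[ℤ] L) := Φ.toIntLinearMap.baseChange (Cyc p)
  have hFt : ∀ c x, F (c ⊗ₜ x) = c ⊗ₜ Φ x := fun c x => rfl
  have hFk : ∀ (k : ℕ) c x, (F ^ k) (c ⊗ₜ x) = c ⊗ₜ (⇑Φ)^[k] x := by
    intro k c x
    induction k with
    | zero => rfl
    | succ k ih => rw [pow_succ', Module.End.mul_apply, ih, hFt, Function.iterate_succ_apply']
  have hFp : F ^ p = 1 := by
    refine LinearMap.ext fun z => ?_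
    induction z using TensorProduct.induction_on with
    | zero => simp
    | tmul c x => rw [hFk, hper]; rfl
    | add z w hz hw => rw [map_add, map_add, hz, hw]
  have hFN : ∀ z, a • ∑ k ∈ Finset.range p, (F ^ k) z = 0 := by
    intro z
    induction z using TensorProduct.induction_on with
    | zero => simp
    | tmul c x => simp only [hFk]; rw [← TensorProduct.tmul_sum, ← TensorProduct.tmul_smul, hnorm,
        TensorProduct.tmul_zero]
    | add z w hz hw => simp only [map_add, Finset.sum_add_distrib, smul_add, hz, hw, add_zero]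
  have haddl : ∀ x y z : Cyc p ⊗[ℤ] L, ⁅x + y, z⁆ = ⁅x, z⁆ + ⁅y, z⁆ := fun x y z => add_lie x y z
  have haddr : ∀ x y z : Cyc p ⊗[ℤ] L, ⁅x, y + z⁆ = ⁅x, y⁆ + ⁅x, z⁆ := fun x y z => lie_add x y z
  have hzl : ∀ x : Cyc p ⊗[ℤ] L, ⁅(0 : Cyc p ⊗[ℤ] L), x⁆ = 0 := fun x => zero_lie x
  have hzr : ∀ x : Cyc p ⊗[ℤ] L, ⁅x, (0 : Cyc p ⊗[ℤ] L)⁆ = 0 := fun x => lie_zero x
  have hFlie : ∀ z w, F ⁅z, w⁆ = ⁅F z, F w⁆ := by
    intro z w
    induction z using TensorProduct.induction_on with
    | zero => simp only [map_zero, hzl]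
    | add z z' hz hz' => simp only [haddl, map_add, hz, hz']
    | tmul c x =>
      induction w using TensorProduct.induction_on with
      | zero => simp only [map_zero, hzr]
      | add w w' hw hw' => simp only [haddr, map_add, hw, hw']
      | tmul b y =>
        rw [LieAlgebra.ExtendScalars.bracket_tmul, hFt, hFt, hFt,
          LieAlgebra.ExtendScalars.bracket_tmul, hlie]
  have hsmul : ∀ (c d : Cyc p) (x y : Cyc p ⊗[ℤ] L), ⁅c • x, d • y⁆ = (c * d) • ⁅x, y⁆ :=
    fun c d x y => (LieAlgebra.lie_smul d (c • x) y).trans (by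
      rw [mul_comm, mul_smul]
      exact congrArg (d • ·) (smul_lie c x y))
  let P : ZMod p → Module.End (Cyc p) (Cyc p ⊗[ℤ] L) := fun j => F ^ j.val
  have hP : ∀ j, F * P j = P (j + 1) := fun j => by
    rw [← pow_succ', show P (j + 1) = F ^ (j + 1).val from rfl, ZMod.val_add, ZMod.val_one,
      ← pow_eq_pow_mod _ hFp]
  let π : ZMod p → Module.End (Cyc p) (Cyc p ⊗[ℤ] L) := fun i => ∑ j, e p (-(i * j)) • P j
  have hπ : ∀ i z, π i z = ∑ j, e p (-(i * j)) • P j z := fun i z => by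
    simp only [π, LinearMap.smul_apply, LinearMap.sum_apply]
  have hπF : ∀ i z, F (π i z) = e p i • π i z := fun i z => by
    rw [hπ, map_sum, Finset.smul_sum (r := e p i)]
    refine Fintype.sum_equiv (Equiv.addRight 1) _ _ fun j => ?_
    rw [map_smul, ← Module.End.mul_apply, hP, Equiv.coe_addRight, smul_smul, ← e_add]
    congr 2; ring
  have hπsum : ∀ z, ∑ i, π i z = p • z := fun z => by
    simp only [hπ]
    rw [Finset.sum_comm]
    have h : ∀ j : ZMod p, ∑ i, e p (-(i * j)) • P j z = if j = 0 then p • z else 0 := by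
      intro j
      rw [← Finset.sum_smul]
      split_ifs with hj
      · subst hj
        simp [e_zero, P, Nat.cast_smul_eq_nsmul]
      · rw [Finset.sum_congr rfl fun i _ => congrArg (e p) (neg_mul_eq_mul_neg i j),
          sum_e_mul p (neg_ne_zero.mpr hj), zero_smul]
    rw [Finset.sum_congr rfl fun j _ => h j, Finset.sum_ite_eq' Finset.univ (0 : ZMod p),
      if_pos (Finset.mem_univ _)]
  -- the scaled eigenspaces
  let N : ZMod p → AddSubgroup (Cyc p ⊗[ℤ] L) := fun i =>
    (LinearMap.ker (F - e p i • (1 : Module.End (Cyc p) _))).toAddSubgroup.map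
      (nsmulAddMonoidHom (a * p))
  have hmem : ∀ {i : ZMod p} {w}, w ∈ N i ↔ ∃ z, F z = e p i • z ∧ (a * p) • z = w := by
    intro i w
    simp only [N, AddSubgroup.mem_map, Submodule.mem_toAddSubgroup, LinearMap.mem_ker,
      LinearMap.sub_apply, LinearMap.smul_apply, Module.End.one_apply, sub_eq_zero,
      nsmulAddMonoidHom_apply]
  have hN0 : N 0 = ⊥ := by
    refine le_bot_iff.mp fun w hw => ?_
    obtain ⟨z, hz, rfl⟩ := hmem.mp hw
    rw [e_zero, one_smul] at hz
    have h1 : ∀ k : ℕ, (F ^ k) z = z := by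
      intro k
      induction k with
      | zero => rfl
      | succ k ih => rw [pow_succ', Module.End.mul_apply, ih, hz]
    rw [AddSubgroup.mem_bot, mul_smul]
    simpa [h1] using hFN z
  have hmul : ∀ {i j x y}, x ∈ N i → y ∈ N j → ⁅x, y⁆ ∈ N (i + j) := by
    intro i j x y hx hy
    obtain ⟨z, hz, rfl⟩ := hmem.mp hx
    obtain ⟨w, hw, rfl⟩ := hmem.mp hy
    refine hmem.mpr ⟨(a * p) • ⁅z, w⁆, ?_, ?_⟩
    · rw [map_nsmul, hFlie, hz, hw, hsmul, ← e_add, smul_comm]
    · rw [nsmul_lie, lie_nsmul]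
  have hbot := iter_iSup_eq_bot N hN0 hmul m hm
  have hscale : ∀ z, (a * p * p) • z ∈ ⨆ i, N i := fun z => by
    rw [mul_smul, ← hπsum, Finset.smul_sum]
    exact sum_mem fun i _ => AddSubgroup.mem_iSup_of_mem i (hmem.mpr ⟨π i z, hπF i z, rfl⟩)
  have hC : ∀ k, ∀ x ∈ (C k : AddSubgroup L),
      (1 : Cyc p) ⊗ₜ[ℤ] x ∈ (C k : AddSubgroup (Cyc p ⊗[ℤ] L)) := by
    intro k
    induction k with
    | zero => exact fun x _ => AddSubgroup.mem_top _
    | succ k ih =>
      intro x hx
      induction hx using AddSubgroup.closure_induction with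
      | mem x hx =>
        obtain ⟨c, hc, b, hb, rfl⟩ := hx
        have := mem_br (ih c hc) (AddSubgroup.mem_top ((1 : Cyc p) ⊗ₜ[ℤ] b))
        rwa [LieAlgebra.ExtendScalars.bracket_tmul, one_mul] at this
      | zero => rw [TensorProduct.tmul_zero]; exact zero_mem _
      | add c b _ _ hc hb => rw [TensorProduct.tmul_add]; exact add_mem hc hb
      | neg c _ hc => rw [TensorProduct.tmul_neg]; exact neg_mem hc
  intro x hx
  have h0 : (1 : Cyc p) ⊗ₜ[ℤ] ((a * p * p) ^ (m + 1) • x) = 0 := by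
    have := nsmul_C_mem_iter _ _ hscale m _ (hC m x hx)
    rwa [hbot, AddSubgroup.mem_bot, ← TensorProduct.tmul_smul] at this
  have hone : (AdjoinRoot.modByMonicHom (Polynomial.cyclotomic.monic p ℤ) (1 : Cyc p)).coeff 0 = 1 := by
    rw [← map_one (AdjoinRoot.mk (Polynomial.cyclotomic p ℤ)), AdjoinRoot.modByMonicHom_mk,
      (Polynomial.modByMonic_eq_self_iff (Polynomial.cyclotomic.monic p ℤ)).mpr,
      Polynomial.coeff_one_zero]
    rw [Polynomial.degree_one, Polynomial.degree_cyclotomic]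
    exact_mod_cast Nat.totient_pos.mpr hp.out.pos
  have h3 := congrArg ((TensorProduct.lid ℤ L).toLinearMap ∘ₗ
    ((Polynomial.lcoeff ℤ 0 ∘ₗ AdjoinRoot.modByMonicHom (Polynomial.cyclotomic.monic p ℤ)).rTensor L)) h0
  rw [map_zero] at h3
  simpa [LinearMap.rTensor_tmul, hone] using h3

end CfsgLib.PGroups.Alperin
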