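import Mathlib
import Cfsg.Agent.Lib.PGroups.Alperin.TorsionLie
import Cfsg.Agent.Lib.PGroups.Alperin.BoundedOrder

/-!
# The theorem of Alperin for `p`-groups

* `torsion_section`: for a `p`-group `H` with `Bd p n`, the section `γ_{h+1} / γ_{h+2}` has bounded
  exponent, `h` the bound of Higman and Kreknin
* `pgroup_derived_length`: a `p`-group with an automorphism of order `p` with at most `p ^ n`
  fixed points has derived length bounded in terms of `p` and `n`
-/

set_option autoImplicit false
set_option linter.all false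

namespace CfsgLib.PGroups.Alperin

open CfsgLib.Core
open scoped commutatorElement

universe u

/-- The bound of Higman and Kreknin. -/
def hkk (p : ℕ) : ℕ := HKK.Grading.bound p (2 ^ (p - 1) - 1)

/-- The exponent of the section below. -/
def sectionExp (p n : ℕ) : ℕ := (n + 2) * (hkk p + 1)

variable {p n : ℕ} [hp : Fact p.Prime]

theorem nsmul_mk {G : Type u} [Group G] (S : Assoc.Series G) {w : ℕ} {x : G} (hx : x ∈ S.H w)
    (k : ℕ) : k • S.mk w x hx = S.mk w (x ^ k) (pow_mem hx k) := by
  induction k with
  | zero => rw [zero_smul, eq_comm, S.mk_eq_zero, pow_zero]; exact one_mem _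
  | succ k ih =>
    rw [succ_nsmul, ih, ← S.mk_mul]
    exact S.mk_congr rfl (pow_succ x k).symm _ _

/-- The section has bounded exponent. -/
theorem torsion_section {H : Type u} [Group H] [Finite H] (hH : IsPGroup p H) {α : MulAut H}
    (hb : Bd p n α) :
    ∀ x ∈ (⊤ : Subgroup H).lowerCentralSeries (hkk p),
      x ^ p ^ sectionExp p n ∈ (⊤ : Subgroup H).lowerCentralSeries (hkk p + 1) := by
  have hφ : ∀ w x, x ∈ (Assoc.lcs H).H w → α x ∈ (Assoc.lcs H).H w := fun w x hx =>
    (mem_iff_of_char α ((⊤ : Subgroup H).lowerCentralSeries (w - 1)) x).mp hx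
  have hiter : ∀ (k w : ℕ) x, x ∈ (Assoc.lcs H).H w → (α ^ k) x ∈ (Assoc.lcs H).H w := by
    intro k w x hx
    induction k with
    | zero => exact hx
    | succ k ih => rw [pow_succ', MulAut.mul_apply]; exact hφ w _ ih
  set S := Assoc.lcs H with hS
  set Φ := S.mapAut α hφ with hΦ
  have hper : ∀ x, (⇑Φ)^[p] x = x := by
    intro x
    induction x using S.induction with
    | h0 => exact iterate_map_zero Φ p
    | hadd x y hx hy => rw [iterate_map_add, hx, hy]
    | hmk w x hx =>
      rw [hΦ, S.mapAut_iterate α hφ p hx (hiter p w x hx)]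
      exact S.mk_congr rfl (by rw [hb.1]; rfl) _ _
  have hnorm : ∀ x, p ^ n • ∑ k ∈ Finset.range p, (⇑Φ)^[k] x = 0 := by
    intro x
    induction x using S.induction with
    | h0 => simp [iterate_map_zero]
    | hadd x y hx hy => simp only [iterate_map_add, Finset.sum_add_distrib, smul_add, hx, hy, add_zero]
    | hmk w x hx =>
      obtain ⟨h, hh, hsum⟩ : ∃ h, ∃ hh : h ∈ S.H w,
          ∑ k ∈ Finset.range p, (⇑Φ)^[k] (S.mk w x hx) = S.mk w h hh := by
        generalize p = m
        induction m with
        | zero => exact ⟨1, one_mem _, by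
            rw [Finset.range_zero, Finset.sum_empty, eq_comm, S.mk_eq_zero]; exact one_mem _⟩
        | succ m ih =>
          obtain ⟨h, hh, hsum⟩ := ih
          refine ⟨h * (α ^ m) x, mul_mem hh (hiter m w x hx), ?_⟩
          rw [Finset.sum_range_succ, hsum, hΦ, S.mapAut_iterate α hφ m hx (hiter m w x hx),
            S.mk_mul]
      rw [hsum, nsmul_mk, S.mk_eq_zero]
      have hfix : Φ (S.mk w h hh) = S.mk w h hh := by
        rw [← hsum, map_sum]
        simp only [← Function.iterate_succ_apply']
        have h1 := Finset.sum_range_succ' (fun k => (⇑Φ)^[k] (S.mk w x hx)) p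
        rw [Finset.sum_range_succ, hper] at h1
        exact (add_right_cancel h1).symm
      rw [hΦ, S.mapAut_mk] at hfix
      have h2 : α h * h⁻¹ ∈ S.H (w + 1) := by
        rw [← S.mk_eq_zero (hx := mul_mem (hφ w h hh) (inv_mem hh)), S.mk_mul _ (hφ w h hh) (inv_mem hh),
          S.mk_inv _ hh, hfix, add_neg_cancel]
      haveI := S.normal (w + 1)
      have hN : ∀ y, y ∈ S.H (w + 1) ↔ α y ∈ S.H (w + 1) :=
        mem_iff_of_char α ((⊤ : Subgroup H).lowerCentralSeries w)
      set β := onQuot α (S.H (w + 1)) hN with hβ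
      let Fx : Subgroup (H ⧸ S.H (w + 1)) := β.toMonoidHom.eqLocus (MonoidHom.id _)
      have hcard : Nat.card Fx ≤ p ^ n := (hb.quot _ hN).2
      obtain ⟨k, hk⟩ := IsPGroup.iff_card.mp
        ((hH.to_quotient (S.H (w + 1))).to_subgroup Fx)
      have hle : k ≤ n := (Nat.pow_le_pow_iff_right hp.out.one_lt).mp (hk ▸ hcard)
      have hmemFx : (h : H ⧸ S.H (w + 1)) ∈ Fx := by
        show β (h : H ⧸ S.H (w + 1)) = (h : H ⧸ S.H (w + 1))
        rw [hβ, onQuot_mk]
        exact QuotientGroup.eq_iff_div_mem.mpr (by rwa [div_eq_mul_inv])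
      rw [← QuotientGroup.eq_one_iff, QuotientGroup.mk_pow, ← orderOf_dvd_iff_pow_eq_one]
      exact ((Subgroup.orderOf_dvd_natCard _ hmemFx).trans (dvd_of_eq hk)).trans
        (pow_dvd_pow p hle)
  intro x hx
  have hx' : x ∈ S.H (hkk p + 1) := hx
  have hmem := HKK.mk_mem_C (hkk p) x hx'
  have h0 := nsmul_C_eq_zero Φ (S.mapAut_lie α hφ) hper (p ^ n) hnorm (hkk p)
    (fun M _ gr => gr.C_eq_bot) _ hmem
  rw [show p ^ n * p * p = p ^ (n + 2) by rw [pow_add, sq, mul_assoc], ← pow_mul, nsmul_mk,
    S.mk_eq_zero] at h0
  exact h0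

theorem map_lowerCentralSeries_top {G : Type u} [Group G] (H : Subgroup G) (k : ℕ) :
    ((⊤ : Subgroup H).lowerCentralSeries k).map H.subtype = H.lowerCentralSeries k := by
  induction k with
  | zero => rw [Subgroup.lowerCentralSeries_zero, Subgroup.lowerCentralSeries_zero,
      ← MonoidHom.range_eq_map, Subgroup.range_subtype]
  | succ k ih =>
    rw [Subgroup.lowerCentralSeries_succ, Subgroup.lowerCentralSeries_succ, Subgroup.map_commutator,
      ih, ← MonoidHom.range_eq_map, Subgroup.range_subtype]

theorem lowerCentralSeries_le_self {G : Type u} [Group G] (H : Subgroup G) (k : ℕ) :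
    H.lowerCentralSeries k ≤ H := by
  rw [← map_lowerCentralSeries_top]; exact Subgroup.map_subtype_le _

/-- A derived length is additive in extensions. -/
theorem derivedSeries_add_eq_bot {G : Type u} [Group G] {N : Subgroup G} {a b : ℕ}
    (ha : derivedSeries G a ≤ N) (hb : derivedSeries N b = ⊥) : derivedSeries G (a + b) = ⊥ := by
  have : ∀ i, derivedSeries G (a + i) ≤ (derivedSeries N i).map N.subtype := by
    intro i
    induction i with
    | zero =>
      rw [Nat.add_zero, derivedSeries_zero, ← MonoidHom.range_eq_map, Subgroup.range_subtype]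
      exact ha
    | succ i ih =>
      rw [← Nat.add_assoc, derivedSeries_succ, derivedSeries_succ, Subgroup.map_commutator]
      exact Subgroup.commutator_mono ih ih
  exact le_bot_iff.mp ((this b).trans (by rw [hb, Subgroup.map_bot]))

theorem derivedSeries_le_of_quotient {G : Type u} [Group G] {N : Subgroup G} [N.Normal] {a : ℕ}
    (ha : derivedSeries (G ⧸ N) a = ⊥) : derivedSeries G a ≤ N := by
  have := map_derivedSeries_eq (f := QuotientGroup.mk' N) (QuotientGroup.mk'_surjective N) a
  rw [ha, Subgroup.map_eq_bot_iff, QuotientGroup.ker_mk'] at this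
  exact this

/-- A finite soluble group has derived length at most its order. -/
theorem derivedSeries_eq_bot_of_card_le {G : Type u} [Group G] [Finite G] (hG : Group.IsSolvable G)
    {B : ℕ} (hB : Nat.card G ≤ B) : derivedSeries G B = ⊥ := by
  obtain ⟨m, hm⟩ := (Group.isSolvable_def G).mp hG
  have hstep : ∀ k, derivedSeries G k = ⊥ ∨ Nat.card (derivedSeries G k) + k ≤ Nat.card G := by
    intro k
    induction k with
    | zero => right; rw [derivedSeries_zero, Subgroup.card_top]; omega
    | succ k ih =>
      rcases ih with h | h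
      · left; rw [derivedSeries_succ, h, Subgroup.commutator_bot_left]
      · by_cases heq : derivedSeries G (k + 1) = derivedSeries G k
        · left
          have : ∀ j, derivedSeries G (k + j) = derivedSeries G k := by
            intro j
            induction j with
            | zero => rfl
            | succ j ihj => rw [← Nat.add_assoc, derivedSeries_succ, ihj, ← derivedSeries_succ, heq]
          rw [heq, ← this m]
          exact le_bot_iff.mp (hm ▸ derivedSeries_antitone G (Nat.le_add_left m k))
        · right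
          have hlt : derivedSeries G (k + 1) < derivedSeries G k :=
            lt_of_le_of_ne (derivedSeries_antitone G (Nat.le_succ k)) heq
          have : Nat.card (derivedSeries G (k + 1)) < Nat.card (derivedSeries G k) := by
            by_contra hge
            exact hlt.ne (Subgroup.eq_of_le_of_card_ge hlt.le (by omega))
          omega
  rcases hstep B with h | h
  · exact h
  · have := Nat.card_pos (α := derivedSeries G B)
    omega

/-- The bound for the derived length of a `p`-group. -/
def pgroupBound (p n : ℕ) : ℕ :=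
  (orderBound p n (sectionExp p n + 1)).factorial ^
    ((orderBound p n (sectionExp p n + 1)).factorial ^ p ^ (n * p)) + (hkk p + 1)

/-- Alperin's theorem for `p`-groups. -/
theorem pgroup_derived_length {P : Type u} [Group P] [Finite P] (hP : IsPGroup p P) {α : MulAut P}
    (hb : Bd p n α) : derivedSeries P (pgroupBound p n) = ⊥ := by
  classical
  set m := sectionExp p n with hm
  set B := orderBound p n (m + 1) with hB
  set h := hkk p with hh
  haveI : Finite (P →* Equiv.Perm (Fin B)) := Finite.of_injective _ DFunLike.coe_injective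
  let Ψ : P →* ((P →* Equiv.Perm (Fin B)) → Equiv.Perm (Fin B)) := Pi.monoidHom fun φ => φ
  set H := Ψ.ker with hHdef
  have hHmem : ∀ x, x ∈ H ↔ ∀ φ : P →* Equiv.Perm (Fin B), φ x = 1 := fun x => by
    rw [hHdef, MonoidHom.mem_ker, funext_iff]; rfl
  haveI : H.Characteristic := Subgroup.characteristic_iff_le_comap.mpr fun e x hx => by
    rw [Subgroup.mem_comap, hHmem]
    exact fun φ => (hHmem x).mp hx (φ.comp e.toMonoidHom)
  -- the index of `H` is bounded
  have hindex : Nat.card (P ⧸ H) ≤ B.factorial ^ (B.factorial ^ p ^ (n * p)) := by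
    rw [hHdef, Nat.card_congr (QuotientGroup.quotientKerEquivRange Ψ).toEquiv]
    refine (Subgroup.card_le_card_group Ψ.range).trans ?_
    rw [Nat.card_fun, Nat.card_perm, Nat.card_fin]
    refine Nat.pow_le_pow_right (Nat.factorial_pos _) ?_
    obtain ⟨S, hS, hgen⟩ := exists_generators hP hb
    refine (Nat.card_le_card_of_injective (fun (φ : P →* Equiv.Perm (Fin B)) (s : S) => φ s) ?_).trans ?_
    · intro φ ψ e
      exact MonoidHom.eq_of_eqOn_dense hgen fun s hs => congrFun e ⟨s, hs⟩
    · rw [Nat.card_fun, Nat.card_perm, Nat.card_fin, Nat.card_eq_finsetCard]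
      exact Nat.pow_le_pow_right (Nat.factorial_pos _) hS
  -- `H` has bounded class
  set N := H.lowerCentralSeries h with hN
  have hclass : H.lowerCentralSeries (h + 1) = ⊥ := by
    haveI : N.Characteristic := inferInstance
    have hmap : ∀ (e : P ≃* P) (x : P), x ∈ N → e x ∈ N := fun e x hx => (mem_iff_of_char e N x).mp hx
    let pw : ℕ → Subgroup P := fun k => Subgroup.closure ((fun x => x ^ p ^ k) '' (N : Set P))
    have hpwc : ∀ k, (pw k).Characteristic := fun k =>
      Subgroup.characteristic_iff_le_comap.mpr fun e => by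
        rw [Subgroup.closure_le]
        rintro _ ⟨x, hx, rfl⟩
        exact Subgroup.subset_closure ⟨e x, hmap e x hx, (map_pow e x _).symm⟩
    haveI := hpwc (m + 1)
    -- the section `N / N^(p^(m+1))` is small, hence centralised by `H`
    have hcentral : H.lowerCentralSeries (h + 1) ≤ pw (m + 1) := by
      let π := QuotientGroup.mk' (pw (m + 1))
      let Nb : Subgroup (P ⧸ pw (m + 1)) := N.map π
      haveI : Nb.Normal := Subgroup.Normal.map inferInstance π (QuotientGroup.mk'_surjective _)
      set β := onQuot α (pw (m + 1)) (mem_iff_of_char α _) with hβ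
      have hNb : ∀ q, q ∈ Nb ↔ β q ∈ Nb := by
        intro q
        constructor
        · rintro ⟨x, hx, rfl⟩
          exact ⟨α x, hmap α x hx, rfl⟩
        · rintro ⟨x, hx, hxq⟩
          refine ⟨α.symm x, hmap α.symm x hx, β.injective ?_⟩
          rw [← hxq]
          show ((α (α.symm x) : P) : P ⧸ pw (m + 1)) = (x : P ⧸ pw (m + 1))
          rw [MulEquiv.apply_symm_apply]
      have hcard : Nat.card Nb ≤ B := by
        refine card_le_of_exponent ((hP.to_quotient _).to_subgroup Nb)
          ((hb.quot _ (mem_iff_of_char α _)).restrict Nb hNb) (m + 1) ?_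
        rintro ⟨_, x, hx, rfl⟩
        refine Subtype.ext ?_
        show (π x) ^ p ^ (m + 1) = 1
        rw [← map_pow]
        exact (QuotientGroup.eq_one_iff _).mpr (Subgroup.subset_closure ⟨x, hx, rfl⟩)
      haveI := Fintype.ofFinite Nb
      let emb : Nb ↪ Fin B := (Fintype.equivFin Nb).toEmbedding.trans
        (Fin.castLEEmb (by rwa [Nat.card_eq_fintype_card] at hcard))
      let conjP : P →* Equiv.Perm Nb :=
        (MulAut.toPerm Nb).comp ((MulAut.conjNormal (H := Nb)).comp π)
      let toB : P →* Equiv.Perm (Fin B) :=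
        (Equiv.Perm.viaEmbeddingHom emb).comp conjP
      rw [Subgroup.lowerCentralSeries_succ, Subgroup.commutator_le]
      intro x hx y hy
      have hfix : conjP y = 1 := Equiv.Perm.viaEmbeddingHom_injective emb (by
        rw [map_one]; exact (hHmem y).mp hy toB)
      have := congrArg Subtype.val (Equiv.congr_fun hfix ⟨π x, Subgroup.mem_map_of_mem π hx⟩)
      change π y * π x * (π y)⁻¹ = π x at this
      rw [← QuotientGroup.eq_one_iff]
      show π (x * y * x⁻¹ * y⁻¹) = 1
      rw [map_mul, map_mul, map_mul, map_inv, map_inv, mul_inv_eq_one, mul_inv_eq_iff_eq_mul]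
      exact (mul_inv_eq_iff_eq_mul.mp this).symm
    have htor : pw m ≤ H.lowerCentralSeries (h + 1) := by
      rw [Subgroup.closure_le]
      rintro _ ⟨x, hx, rfl⟩
      rw [hN, SetLike.mem_coe, ← map_lowerCentralSeries_top] at hx
      rw [SetLike.mem_coe, ← map_lowerCentralSeries_top]
      obtain ⟨y, hy, rfl⟩ := hx
      exact ⟨y ^ p ^ m, torsion_section (hP.to_subgroup H) (hb.restrict H (mem_iff_of_char α H)) y hy,
        map_pow _ _ _⟩
    have hfrat : pw (m + 1) ≤ (frattini (pw m)).map (pw m).subtype := by
      rw [Subgroup.closure_le]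
      rintro _ ⟨x, hx, rfl⟩
      refine ⟨(⟨x ^ p ^ m, Subgroup.subset_closure ⟨x, hx, rfl⟩⟩ : pw m) ^ p,
        pow_mem_frattini (hP.to_subgroup _) _, ?_⟩
      show (x ^ p ^ m) ^ p = x ^ p ^ (m + 1)
      rw [← pow_mul, pow_succ]
    have hbot : pw m = ⊥ := by
      by_contra hne
      haveI : Nontrivial (pw m) := (Subgroup.nontrivial_iff_ne_bot _).mpr hne
      have htop : frattini (pw m) = ⊤ := Subgroup.map_injective (pw m).subtype_injective (by
        rw [← MonoidHom.range_eq_map, Subgroup.range_subtype]
        exact le_antisymm (Subgroup.map_subtype_le _) ((htor.trans hcentral).trans hfrat))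
      have : (⊥ : Subgroup (pw m)) = ⊤ := frattini_nongenerating (by rw [htop, sup_top_eq])
      exact bot_ne_top this
    refine le_bot_iff.mp (hcentral.trans (hfrat.trans ((Subgroup.map_subtype_le _).trans hbot.le)))
  have hder : derivedSeries H (h + 1) = ⊥ := by
    refine le_bot_iff.mp ((Subgroup.derived_le_lower_central _).trans ?_)
    rw [← Subgroup.map_le_map_iff_of_injective H.subtype_injective, map_lowerCentralSeries_top,
      hclass, Subgroup.map_bot]
  haveI : Group.IsNilpotent P := hP.isNilpotent
  exact derivedSeries_add_eq_bot (derivedSeries_le_of_quotient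
    (derivedSeries_eq_bot_of_card_le (hG := (inferInstance : Group.IsSolvable (P ⧸ H))) hindex)) hder

end CfsgLib.PGroups.Alperin
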